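import Cfsg.Agent.Lib.Helper29.TcCox
import Cfsg.Prelude.Def_Spor_Fi22
import Cfsg.Agent.Lib.Helper29.FiA.Tab0

/-! Generated certificate data for FiA (Fi22): tables of a Todd–Coxeter trace and of the coset action. -/

set_option autoImplicit false

namespace Cfsg.Agent.Lib.Helper29.FiA

open Cfsg.Agent.Lib.Helper29.TcTrace Cfsg.Agent.Lib.Helper29.TcCert Cfsg.Agent.Lib.Helper29.TcPerm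

def nodesL : List Cfsg.Spor.Fi22.Gen := [.a, .b, .c, .d, .e, .f, .g, .h, .i]
def extraWords : List (List (Cfsg.Spor.Fi22.Gen × Bool)) := [[(.d, true), (.c, true), (.b, true), (.d, true), (.e, true), (.f, true), (.d, true), (.h, true), (.i, true), (.d, true), (.c, true), (.b, true), (.d, true), (.e, true), (.f, true), (.d, true), (.h, true), (.i, true), (.d, true), (.c, true), (.b, true), (.d, true), (.e, true), (.f, true), (.d, true), (.h, true), (.i, true), (.d, true), (.c, true), (.b, true), (.d, true), (.e, true), (.f, true), (.d, true), (.h, true), (.i, true), (.d, true), (.c, true), (.b, true), (.d, true), (.e, true), (.f, true), (.d, true), (.h, true), (.i, true), (.d, true), (.c, true), (.b, true), (.d, true), (.e, true), (.f, true),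 (.d, true), (.h, true), (.i, true), (.d, true), (.c, true), (.b, true), (.d, true), (.e, true), (.f, true), (.d, true), (.h, true), (.i, true), (.d, true), (.c, true), (.b, true), (.d, true), (.e, true), (.f, true), (.d, true), (.h, true), (.i, true), (.d, true), (.c, true), (.b, true), (.d, true), (.e, true), (.f, true), (.d, true), (.h, true), (.i, true), (.d, true), (.c, true), (.b, true), (.d, true), (.e, true), (.f, true), (.d, true), (.h, true), (.i, true)],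
  [(.a, true), (.b, true), (.c, true), (.d, true), (.e, true), (.f, true), (.h, true), (.a, true), (.b, true), (.c, true), (.d, true), (.e, true), (.f, true), (.h, true), (.a, true), (.b, true), (.c, true), (.d, true), (.e, true), (.f, true), (.h, true), (.a, true), (.b, true), (.c, true), (.d, true), (.e, true), (.f, true), (.h, true), (.a, true), (.b, true), (.c, true), (.d, true), (.e, true), (.f, true), (.h, true), (.a, true), (.b, true), (.c, true), (.d, true), (.e, true), (.f, true), (.h, true), (.a, true), (.b, true), (.c, true), (.d, true), (.e, true), (.f, true), (.h, true), (.a, true), (.b, true), (.c, true), (.d, true), (.e, true), (.f, true), (.h, true), (.a, true), (.b, true), (.c, true), (.d, true), (.e, true), (.f, true), (.h,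 true)],
  [(.b, true), (.c, true), (.d, true), (.e, true), (.f, true), (.g, true), (.h, true), (.b, true), (.c, true), (.d, true), (.e, true), (.f, true), (.g, true), (.h, true), (.b, true), (.c, true), (.d, true), (.e, true), (.f, true), (.g, true), (.h, true), (.b, true), (.c, true), (.d, true), (.e, true), (.f, true), (.g, true), (.h, true), (.b, true), (.c, true), (.d, true), (.e, true), (.f, true), (.g, true), (.h, true), (.b, true), (.c, true), (.d, true), (.e, true), (.f, true), (.g, true), (.h, true), (.b, true), (.c, true), (.d, true), (.e, true), (.f, true), (.g, true), (.h, true), (.b, true), (.c, true), (.d, true), (.e, true), (.f, true), (.g, true), (.h, true), (.b, true), (.c, true), (.d, true), (.e, true), (.f, true), (.g, true),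 (.h, true)]]
def hWords : List (List (Cfsg.Spor.Fi22.Gen × Bool)) := [[(.a, true)],
  [(.c, true)],
  [(.d, true)],
  [(.e, true)],
  [(.f, true)],
  [(.g, true)],
  [(.h, true)],
  [(.i, true)],
  [(.a, true), (.b, true), (.c, true), (.d, true), (.e, true), (.h, true), (.a, true), (.b, true), (.c, true), (.d, true), (.e, true), (.h, true), (.a, true), (.b, true), (.c, true), (.d, true), (.e, true), (.h, true), (.a, true), (.b, true), (.c, true), (.d, true), (.e, true), (.h, true), (.a, true), (.b, true), (.c, true), (.d, true), (.e, true), (.h, true)]]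
def colOf : Cfsg.Spor.Fi22.Gen × Bool → ℕ
  | (.a, _) => 0
  | (.b, _) => 1
  | (.c, _) => 2
  | (.d, _) => 3
  | (.e, _) => 4
  | (.f, _) => 5
  | (.g, _) => 6
  | (.h, _) => 7
  | (.i, _) => 8
def colLetters : List (Cfsg.Spor.Fi22.Gen × Bool) := [(.a, true), (.b, true), (.c, true), (.d, true), (.e, true), (.f, true), (.g, true), (.h, true), (.i, true)]
def invL : List ℕ := [0, 1, 2, 3, 4, 5, 6, 7, 8]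
def vtree : WTree := (.node (.node (.node (.node (.node (.node (.node (.node (.leaf 66 0 []) (.leaf 65 7 [1, 2, 3, 4, 7, 0, 1, 2, 3, 4, 7, 0, 1, 2, 3, 4, 7, 0, 1, 2, 3, 4, 7, 17, 0, 1, 2, 3, 4, 7, 0])) (.node (.leaf 34 0 [4, 8, 4, 8]) (.leaf 66 0 []))) (.node (.node (.leaf 16 1 [8, 1, 8, 1]) (.leaf 66 0 [])) (.node (.leaf 46 5 [5, 7, 0, 1, 2, 3, 4, 5, 7, 0, 1, 2, 3, 4, 5, 7, 0, 1, 2, 3, 4, 5, 7, 0, 1, 2, 3, 4, 5, 7, 0, 1, 2, 3, 4, 5, 7, 0, 1, 2, 3, 4, 5, 7, 0, 1, 2, 3, 4, 5, 7, 0, 1, 2, 3, 4, 5, 7, 0, 1, 2, 3, 4]) (.leaf 66 0 [])))) (.node (.node (.node (.leaf 8 0 [0, 8, 0, 8]) (.leaf 65 23 [7, 0, 1, 2, 3, 4, 7, 17, 0, 1, 2, 3, 4, 7, 0, 1, 2, 3, 4, 7, 0, 1, 2, 3, 4, 7, 0, 1, 2, 3, 4])) (.node (.leaf 43 1 [8, 7, 8, 7, 8, 7]) (.leaf 66 0 [])))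 (.node (.node (.leaf 25 1 [4, 3, 4, 3, 4, 3]) (.leaf 66 0 [])) (.node (.leaf 60 1 [12, 4]) (.leaf 66 0 []))))) (.node (.node (.node (.node (.leaf 4 0 [0, 4, 0, 4]) (.leaf 65 15 [3, 4, 7, 0, 1, 2, 3, 4, 7, 0, 1, 2, 3, 4, 7, 17, 0, 1, 2, 3, 4, 7, 0, 1, 2, 3, 4, 7, 0, 1, 2])) (.node (.leaf 38 1 [8, 5, 8, 5]) (.leaf 66 0 []))) (.node (.node (.leaf 21 0 [2, 6, 2, 6]) (.leaf 66 0 [])) (.node (.leaf 47 6 [7, 1, 2, 3, 4, 5, 6, 7, 1, 2, 3, 4, 5, 6, 7, 1, 2, 3, 4, 5, 6, 7, 1, 2, 3, 4, 5, 6, 7, 1, 2, 3, 4, 5, 6, 7, 1, 2, 3, 4, 5, 6, 7, 1, 2, 3, 4, 5, 6, 7, 1, 2, 3, 4, 5, 6, 7, 1, 2, 3, 4, 5, 6]) (.leaf 66 0 [])))) (.node (.node (.node (.leaf 12 1 [4, 1, 4, 1]) (.leaf 66 0 [])) (.node (.leaf 45 6 [3, 7, 8, 3, 2, 1, 3, 4, 5, 3, 7, 8, 3, 2, 1, 3, 4, 5, 3,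 7, 8, 3, 2, 1, 3, 4, 5, 3, 7, 8, 3, 2, 1, 3, 4, 5, 3, 7, 8, 3, 2, 1, 3, 4, 5, 3, 7, 8, 3, 2, 1, 3, 4, 5, 3, 7, 8, 3, 2, 1, 3, 4, 5, 3, 7, 8, 3, 2, 1, 3, 4, 5, 3, 7, 8, 3, 2, 1, 3, 4, 5, 3, 7, 8, 3, 2, 1, 3, 4, 5]) (.leaf 66 0 []))) (.node (.node (.leaf 29 1 [8, 3, 8, 3]) (.leaf 66 0 [])) (.node (.leaf 64 1 [16, 8]) (.leaf 66 0 [])))))) (.node (.node (.node (.node (.node (.leaf 2 0 [0, 2, 0, 2]) (.leaf 65 11 [7, 0, 1, 2, 3, 4, 7, 0, 1, 2, 3, 4, 7, 0, 1, 2, 3, 4, 7, 17, 0, 1, 2, 3, 4, 7, 0, 1, 2, 3, 4])) (.node (.leaf 36 1 [6, 5, 6, 5, 6, 5]) (.leaf 66 0 []))) (.node (.node (.leaf 19 0 [2, 4, 2, 4]) (.leaf 66 0 [])) (.node (.leaf 47 2 [3, 4, 5, 6, 7, 1, 2, 3, 4, 5, 6, 7, 1, 2, 3, 4, 5, 6, 7, 1, 2, 3, 4, 5, 6, 7, 1, 2, 3, 4, 5, 6, 7, 1, 2, 3,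 4, 5, 6, 7, 1, 2, 3, 4, 5, 6, 7, 1, 2, 3, 4, 5, 6, 7, 1, 2, 3, 4, 5, 6, 7, 1, 2]) (.leaf 66 0 [])))) (.node (.node (.node (.leaf 10 1 [2, 1, 2, 1, 2, 1]) (.leaf 65 27 [3, 4, 7, 17, 0, 1, 2, 3, 4, 7, 0, 1, 2, 3, 4, 7, 0, 1, 2, 3, 4, 7, 0, 1, 2, 3, 4, 7, 0, 1, 2])) (.node (.leaf 45 2 [1, 3, 4, 5, 3, 7, 8, 3, 2, 1, 3, 4, 5, 3, 7, 8, 3, 2, 1, 3, 4, 5, 3, 7, 8, 3, 2, 1, 3, 4, 5, 3, 7, 8, 3, 2, 1, 3, 4, 5, 3, 7, 8, 3, 2, 1, 3, 4, 5, 3, 7, 8, 3, 2, 1, 3, 4, 5, 3, 7, 8, 3, 2, 1, 3, 4, 5, 3, 7, 8, 3, 2, 1, 3, 4, 5, 3, 7, 8, 3, 2, 1, 3, 4, 5, 3, 7, 8, 3, 2]) (.leaf 66 0 []))) (.node (.node (.leaf 27 1 [6, 3, 6, 3]) (.leaf 66 0 [])) (.node (.leaf 62 1 [14, 6]) (.leaf 66 0 []))))) (.node (.node (.node (.node (.leaf 6 0 [0, 6, 0, 6]) (.leaf 65 19 [1, 2,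 3, 4, 7, 0, 1, 2, 3, 4, 7, 17, 0, 1, 2, 3, 4, 7, 0, 1, 2, 3, 4, 7, 0, 1, 2, 3, 4, 7, 0])) (.node (.leaf 41 0 [6, 8, 6, 8]) (.leaf 66 0 []))) (.node (.node (.leaf 23 0 [2, 8, 2, 8]) (.leaf 66 0 [])) (.node (.leaf 58 1 [10, 2]) (.leaf 66 0 [])))) (.node (.node (.node (.leaf 14 1 [6, 1, 6, 1]) (.leaf 66 0 [])) (.node (.leaf 46 1 [1, 2, 3, 4, 5, 7, 0, 1, 2, 3, 4, 5, 7, 0, 1, 2, 3, 4, 5, 7, 0, 1, 2, 3, 4, 5, 7, 0, 1, 2, 3, 4, 5, 7, 0, 1, 2, 3, 4, 5, 7, 0, 1, 2, 3, 4, 5, 7, 0, 1, 2, 3, 4, 5, 7, 0, 1, 2, 3, 4, 5, 7, 0]) (.leaf 66 0 []))) (.node (.node (.leaf 32 0 [4, 6, 4, 6]) (.leaf 66 0 [])) (.node (.leaf 65 3 [3, 4, 7, 0, 1, 2, 3, 4, 7, 0, 1, 2, 3, 4, 7, 0, 1, 2, 3, 4, 7, 0, 1, 2, 3, 4, 7, 17, 0, 1, 2]) (.leaf 66 0 []))))))) (.node (.node (.node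 (.node (.node (.node (.leaf 1 0 [0, 1, 0, 1, 0, 1]) (.leaf 65 9 [3, 4, 7, 0, 1, 2, 3, 4, 7, 0, 1, 2, 3, 4, 7, 0, 1, 2, 3, 4, 7, 17, 0, 1, 2, 3, 4, 7, 0, 1, 2])) (.node (.leaf 35 0 [5, 5]) (.leaf 66 0 []))) (.node (.node (.leaf 18 0 [2, 3, 2, 3, 2, 3]) (.leaf 66 0 [])) (.node (.leaf 47 0 [1, 2, 3, 4, 5, 6, 7, 1, 2, 3, 4, 5, 6, 7, 1, 2, 3, 4, 5, 6, 7, 1, 2, 3, 4, 5, 6, 7, 1, 2, 3, 4, 5, 6, 7, 1, 2, 3, 4, 5, 6, 7, 1, 2, 3, 4, 5, 6, 7, 1, 2, 3, 4, 5, 6, 7, 1, 2, 3, 4, 5, 6, 7]) (.leaf 66 0 [])))) (.node (.node (.node (.leaf 9 0 [1, 1]) (.leaf 65 25 [1, 2, 3, 4, 7, 17, 0, 1, 2, 3, 4, 7, 0, 1, 2, 3, 4, 7, 0, 1, 2, 3, 4, 7, 0, 1, 2, 3, 4, 7, 0])) (.node (.leaf 45 0 [3, 2, 1, 3, 4, 5, 3, 7, 8, 3, 2, 1, 3, 4, 5, 3, 7, 8, 3, 2, 1, 3, 4, 5, 3, 7, 8, 3,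 2, 1, 3, 4, 5, 3, 7, 8, 3, 2, 1, 3, 4, 5, 3, 7, 8, 3, 2, 1, 3, 4, 5, 3, 7, 8, 3, 2, 1, 3, 4, 5, 3, 7, 8, 3, 2, 1, 3, 4, 5, 3, 7, 8, 3, 2, 1, 3, 4, 5, 3, 7, 8, 3, 2, 1, 3, 4, 5, 3, 7, 8]) (.leaf 66 0 []))) (.node (.node (.leaf 26 1 [5, 3, 5, 3]) (.leaf 66 0 [])) (.node (.leaf 61 1 [13, 5]) (.leaf 66 0 []))))) (.node (.node (.node (.node (.leaf 5 0 [0, 5, 0, 5]) (.leaf 65 17 [7, 0, 1, 2, 3, 4, 7, 0, 1, 2, 3, 4, 7, 17, 0, 1, 2, 3, 4, 7, 0, 1, 2, 3, 4, 7, 0, 1, 2, 3, 4])) (.node (.leaf 40 0 [6, 7, 6, 7]) (.leaf 66 0 []))) (.node (.node (.leaf 22 0 [2, 7, 2, 7]) (.leaf 66 0 [])) (.node (.leaf 57 1 [9, 0]) (.leaf 66 0 [])))) (.node (.node (.node (.leaf 13 1 [5, 1, 5, 1]) (.leaf 66 0 [])) (.node (.leaf 45 8 [8, 3, 2, 1, 3, 4, 5, 3, 7, 8, 3, 2, 1,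 3, 4, 5, 3, 7, 8, 3, 2, 1, 3, 4, 5, 3, 7, 8, 3, 2, 1, 3, 4, 5, 3, 7, 8, 3, 2, 1, 3, 4, 5, 3, 7, 8, 3, 2, 1, 3, 4, 5, 3, 7, 8, 3, 2, 1, 3, 4, 5, 3, 7, 8, 3, 2, 1, 3, 4, 5, 3, 7, 8, 3, 2, 1, 3, 4, 5, 3, 7, 8, 3, 2, 1, 3, 4, 5, 3, 7]) (.leaf 66 0 []))) (.node (.node (.leaf 31 0 [4, 5, 4, 5, 4, 5]) (.leaf 66 0 [])) (.node (.leaf 65 1 [1, 2, 3, 4, 7, 0, 1, 2, 3, 4, 7, 0, 1, 2, 3, 4, 7, 0, 1, 2, 3, 4, 7, 0, 1, 2, 3, 4, 7, 17, 0]) (.leaf 66 0 [])))))) (.node (.node (.node (.node (.node (.leaf 3 0 [0, 3, 0, 3]) (.leaf 65 13 [1, 2, 3, 4, 7, 0, 1, 2, 3, 4, 7, 0, 1, 2, 3, 4, 7, 17, 0, 1, 2, 3, 4, 7, 0, 1, 2, 3, 4, 7, 0])) (.node (.leaf 37 1 [7, 5, 7, 5]) (.leaf 66 0 []))) (.node (.node (.leaf 20 0 [2, 5, 2, 5]) (.leaf 66 0 [])) (.node (.leaf 47 4 [5,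 6, 7, 1, 2, 3, 4, 5, 6, 7, 1, 2, 3, 4, 5, 6, 7, 1, 2, 3, 4, 5, 6, 7, 1, 2, 3, 4, 5, 6, 7, 1, 2, 3, 4, 5, 6, 7, 1, 2, 3, 4, 5, 6, 7, 1, 2, 3, 4, 5, 6, 7, 1, 2, 3, 4, 5, 6, 7, 1, 2, 3, 4]) (.leaf 66 0 [])))) (.node (.node (.node (.leaf 11 1 [3, 1, 3, 1]) (.leaf 65 29 [7, 17, 0, 1, 2, 3, 4, 7, 0, 1, 2, 3, 4, 7, 0, 1, 2, 3, 4, 7, 0, 1, 2, 3, 4, 7, 0, 1, 2, 3, 4])) (.node (.leaf 45 4 [4, 5, 3, 7, 8, 3, 2, 1, 3, 4, 5, 3, 7, 8, 3, 2, 1, 3, 4, 5, 3, 7, 8, 3, 2, 1, 3, 4, 5, 3, 7, 8, 3, 2, 1, 3, 4, 5, 3, 7, 8, 3, 2, 1, 3, 4, 5, 3, 7, 8, 3, 2, 1, 3, 4, 5, 3, 7, 8, 3, 2, 1, 3, 4, 5, 3, 7, 8, 3, 2, 1, 3, 4, 5, 3, 7, 8, 3, 2, 1, 3, 4, 5, 3, 7, 8, 3, 2, 1, 3]) (.leaf 66 0 []))) (.node (.node (.leaf 28 1 [7, 3, 7, 3, 7, 3]) (.leaf 66 0 [])) (.node (.leaf 63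 1 [15, 7]) (.leaf 66 0 []))))) (.node (.node (.node (.node (.leaf 7 0 [0, 7, 0, 7]) (.leaf 65 21 [3, 4, 7, 0, 1, 2, 3, 4, 7, 17, 0, 1, 2, 3, 4, 7, 0, 1, 2, 3, 4, 7, 0, 1, 2, 3, 4, 7, 0, 1, 2])) (.node (.leaf 42 0 [7, 7]) (.leaf 66 0 []))) (.node (.node (.leaf 24 0 [3, 3]) (.leaf 66 0 [])) (.node (.leaf 59 1 [11, 3]) (.leaf 66 0 [])))) (.node (.node (.node (.leaf 15 1 [7, 1, 7, 1]) (.leaf 66 0 [])) (.node (.leaf 46 3 [3, 4, 5, 7, 0, 1, 2, 3, 4, 5, 7, 0, 1, 2, 3, 4, 5, 7, 0, 1, 2, 3, 4, 5, 7, 0, 1, 2, 3, 4, 5, 7, 0, 1, 2, 3, 4, 5, 7, 0, 1, 2, 3, 4, 5, 7, 0, 1, 2, 3, 4, 5, 7, 0, 1, 2, 3, 4, 5, 7, 0, 1, 2]) (.leaf 66 0 []))) (.node (.node (.leaf 33 0 [4, 7, 4, 7]) (.leaf 66 0 [])) (.node (.leaf 65 5 [7, 0, 1, 2, 3, 4, 7, 0, 1, 2, 3, 4, 7, 0, 1,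 2, 3, 4, 7, 0, 1, 2, 3, 4, 7, 17, 0, 1, 2, 3, 4]) (.leaf 66 0 [])))))))) (.node (.node (.node (.node (.node (.node (.node (.leaf 0 0 [0, 0]) (.leaf 65 8 [2, 3, 4, 7, 0, 1, 2, 3, 4, 7, 0, 1, 2, 3, 4, 7, 0, 1, 2, 3, 4, 7, 17, 0, 1, 2, 3, 4, 7, 0, 1])) (.node (.leaf 34 1 [8, 4, 8, 4]) (.leaf 66 0 []))) (.node (.node (.leaf 17 0 [2, 2]) (.leaf 66 0 [])) (.node (.leaf 46 6 [7, 0, 1, 2, 3, 4, 5, 7, 0, 1, 2, 3, 4, 5, 7, 0, 1, 2, 3, 4, 5, 7, 0, 1, 2, 3, 4, 5, 7, 0, 1, 2, 3, 4, 5, 7, 0, 1, 2, 3, 4, 5, 7, 0, 1, 2, 3, 4, 5, 7, 0, 1, 2, 3, 4, 5, 7, 0, 1, 2, 3, 4, 5]) (.leaf 66 0 [])))) (.node (.node (.node (.leaf 8 1 [8, 0, 8, 0]) (.leaf 65 24 [0, 1, 2, 3, 4, 7, 17, 0, 1, 2, 3, 4, 7, 0, 1, 2, 3, 4, 7, 0, 1, 2, 3, 4, 7, 0, 1, 2, 3, 4, 7])) (.node (.leaf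 44 0 [8, 8]) (.leaf 66 0 []))) (.node (.node (.leaf 26 0 [3, 5, 3, 5]) (.leaf 66 0 [])) (.node (.leaf 61 0 [5, 13]) (.leaf 66 0 []))))) (.node (.node (.node (.node (.leaf 4 1 [4, 0, 4, 0]) (.leaf 65 16 [4, 7, 0, 1, 2, 3, 4, 7, 0, 1, 2, 3, 4, 7, 17, 0, 1, 2, 3, 4, 7, 0, 1, 2, 3, 4, 7, 0, 1, 2, 3])) (.node (.leaf 39 0 [6, 6]) (.leaf 66 0 []))) (.node (.node (.leaf 21 1 [6, 2, 6, 2]) (.leaf 66 0 [])) (.node (.leaf 57 0 [0, 9]) (.leaf 66 0 [])))) (.node (.node (.node (.leaf 13 0 [1, 5, 1, 5]) (.leaf 66 0 [])) (.node (.leaf 45 7 [7, 8, 3, 2, 1, 3, 4, 5, 3, 7, 8, 3, 2, 1, 3, 4, 5, 3, 7, 8, 3, 2, 1, 3, 4, 5, 3, 7, 8, 3, 2, 1, 3, 4, 5, 3, 7, 8, 3, 2, 1, 3, 4, 5, 3, 7, 8, 3, 2, 1, 3, 4, 5, 3, 7, 8, 3, 2, 1, 3, 4, 5, 3, 7, 8, 3, 2, 1, 3, 4, 5, 3, 7,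 8, 3, 2, 1, 3, 4, 5, 3, 7, 8, 3, 2, 1, 3, 4, 5, 3]) (.leaf 66 0 []))) (.node (.node (.leaf 30 0 [4, 4]) (.leaf 66 0 [])) (.node (.leaf 65 0 [0, 1, 2, 3, 4, 7, 0, 1, 2, 3, 4, 7, 0, 1, 2, 3, 4, 7, 0, 1, 2, 3, 4, 7, 0, 1, 2, 3, 4, 7, 17]) (.leaf 66 0 [])))))) (.node (.node (.node (.node (.node (.leaf 2 1 [2, 0, 2, 0]) (.leaf 65 12 [0, 1, 2, 3, 4, 7, 0, 1, 2, 3, 4, 7, 0, 1, 2, 3, 4, 7, 17, 0, 1, 2, 3, 4, 7, 0, 1, 2, 3, 4, 7])) (.node (.leaf 37 0 [5, 7, 5, 7]) (.leaf 66 0 []))) (.node (.node (.leaf 19 1 [4, 2, 4, 2]) (.leaf 66 0 [])) (.node (.leaf 47 3 [4, 5, 6, 7, 1, 2, 3, 4, 5, 6, 7, 1, 2, 3, 4, 5, 6, 7, 1, 2, 3, 4, 5, 6, 7, 1, 2, 3, 4, 5, 6, 7, 1, 2, 3, 4, 5, 6, 7, 1, 2, 3, 4, 5, 6, 7, 1, 2, 3, 4, 5, 6, 7, 1, 2, 3, 4, 5, 6, 7, 1, 2, 3]) (.leaf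 66 0 [])))) (.node (.node (.node (.leaf 11 0 [1, 3, 1, 3]) (.leaf 65 28 [4, 7, 17, 0, 1, 2, 3, 4, 7, 0, 1, 2, 3, 4, 7, 0, 1, 2, 3, 4, 7, 0, 1, 2, 3, 4, 7, 0, 1, 2, 3])) (.node (.leaf 45 3 [3, 4, 5, 3, 7, 8, 3, 2, 1, 3, 4, 5, 3, 7, 8, 3, 2, 1, 3, 4, 5, 3, 7, 8, 3, 2, 1, 3, 4, 5, 3, 7, 8, 3, 2, 1, 3, 4, 5, 3, 7, 8, 3, 2, 1, 3, 4, 5, 3, 7, 8, 3, 2, 1, 3, 4, 5, 3, 7, 8, 3, 2, 1, 3, 4, 5, 3, 7, 8, 3, 2, 1, 3, 4, 5, 3, 7, 8, 3, 2, 1, 3, 4, 5, 3, 7, 8, 3, 2, 1]) (.leaf 66 0 []))) (.node (.node (.leaf 28 0 [3, 7, 3, 7, 3, 7]) (.leaf 66 0 [])) (.node (.leaf 63 0 [7, 15]) (.leaf 66 0 []))))) (.node (.node (.node (.node (.leaf 6 1 [6, 0, 6, 0]) (.leaf 65 20 [2, 3, 4, 7, 0, 1, 2, 3, 4, 7, 17, 0, 1, 2, 3, 4, 7, 0, 1, 2, 3, 4, 7, 0, 1, 2, 3, 4, 7, 0, 1]))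 (.node (.leaf 41 1 [8, 6, 8, 6]) (.leaf 66 0 []))) (.node (.node (.leaf 23 1 [8, 2, 8, 2]) (.leaf 66 0 [])) (.node (.leaf 59 0 [3, 11]) (.leaf 66 0 [])))) (.node (.node (.node (.leaf 15 0 [1, 7, 1, 7]) (.leaf 66 0 [])) (.node (.leaf 46 2 [2, 3, 4, 5, 7, 0, 1, 2, 3, 4, 5, 7, 0, 1, 2, 3, 4, 5, 7, 0, 1, 2, 3, 4, 5, 7, 0, 1, 2, 3, 4, 5, 7, 0, 1, 2, 3, 4, 5, 7, 0, 1, 2, 3, 4, 5, 7, 0, 1, 2, 3, 4, 5, 7, 0, 1, 2, 3, 4, 5, 7, 0, 1]) (.leaf 66 0 []))) (.node (.node (.leaf 32 1 [6, 4, 6, 4]) (.leaf 66 0 [])) (.node (.leaf 65 4 [4, 7, 0, 1, 2, 3, 4, 7, 0, 1, 2, 3, 4, 7, 0, 1, 2, 3, 4, 7, 0, 1, 2, 3, 4, 7, 17, 0, 1, 2, 3]) (.leaf 66 0 []))))))) (.node (.node (.node (.node (.node (.node (.leaf 1 1 [1, 0, 1, 0, 1, 0]) (.leaf 65 10 [4, 7, 0, 1, 2, 3, 4, 7,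 0, 1, 2, 3, 4, 7, 0, 1, 2, 3, 4, 7, 17, 0, 1, 2, 3, 4, 7, 0, 1, 2, 3])) (.node (.leaf 36 0 [5, 6, 5, 6, 5, 6]) (.leaf 66 0 []))) (.node (.node (.leaf 18 1 [3, 2, 3, 2, 3, 2]) (.leaf 66 0 [])) (.node (.leaf 47 1 [2, 3, 4, 5, 6, 7, 1, 2, 3, 4, 5, 6, 7, 1, 2, 3, 4, 5, 6, 7, 1, 2, 3, 4, 5, 6, 7, 1, 2, 3, 4, 5, 6, 7, 1, 2, 3, 4, 5, 6, 7, 1, 2, 3, 4, 5, 6, 7, 1, 2, 3, 4, 5, 6, 7, 1, 2, 3, 4, 5, 6, 7, 1]) (.leaf 66 0 [])))) (.node (.node (.node (.leaf 10 0 [1, 2, 1, 2, 1, 2]) (.leaf 65 26 [2, 3, 4, 7, 17, 0, 1, 2, 3, 4, 7, 0, 1, 2, 3, 4, 7, 0, 1, 2, 3, 4, 7, 0, 1, 2, 3, 4, 7, 0, 1])) (.node (.leaf 45 1 [2, 1, 3, 4, 5, 3, 7, 8, 3, 2, 1, 3, 4, 5, 3, 7, 8, 3, 2, 1, 3, 4, 5, 3, 7, 8, 3, 2, 1, 3, 4, 5, 3, 7, 8, 3, 2, 1, 3, 4, 5, 3, 7, 8, 3, 2, 1, 3, 4,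 5, 3, 7, 8, 3, 2, 1, 3, 4, 5, 3, 7, 8, 3, 2, 1, 3, 4, 5, 3, 7, 8, 3, 2, 1, 3, 4, 5, 3, 7, 8, 3, 2, 1, 3, 4, 5, 3, 7, 8, 3]) (.leaf 66 0 []))) (.node (.node (.leaf 27 0 [3, 6, 3, 6]) (.leaf 66 0 [])) (.node (.leaf 62 0 [6, 14]) (.leaf 66 0 []))))) (.node (.node (.node (.node (.leaf 5 1 [5, 0, 5, 0]) (.leaf 65 18 [0, 1, 2, 3, 4, 7, 0, 1, 2, 3, 4, 7, 17, 0, 1, 2, 3, 4, 7, 0, 1, 2, 3, 4, 7, 0, 1, 2, 3, 4, 7])) (.node (.leaf 40 1 [7, 6, 7, 6]) (.leaf 66 0 []))) (.node (.node (.leaf 22 1 [7, 2, 7, 2]) (.leaf 66 0 [])) (.node (.leaf 58 0 [2, 10]) (.leaf 66 0 [])))) (.node (.node (.node (.leaf 14 0 [1, 6, 1, 6]) (.leaf 66 0 [])) (.node (.leaf 46 0 [0, 1, 2, 3, 4, 5, 7, 0, 1, 2, 3, 4, 5, 7, 0, 1, 2, 3, 4, 5, 7, 0, 1, 2, 3, 4, 5, 7, 0, 1, 2, 3, 4, 5,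 7, 0, 1, 2, 3, 4, 5, 7, 0, 1, 2, 3, 4, 5, 7, 0, 1, 2, 3, 4, 5, 7, 0, 1, 2, 3, 4, 5, 7]) (.leaf 66 0 []))) (.node (.node (.leaf 31 1 [5, 4, 5, 4, 5, 4]) (.leaf 66 0 [])) (.node (.leaf 65 2 [2, 3, 4, 7, 0, 1, 2, 3, 4, 7, 0, 1, 2, 3, 4, 7, 0, 1, 2, 3, 4, 7, 0, 1, 2, 3, 4, 7, 17, 0, 1]) (.leaf 66 0 [])))))) (.node (.node (.node (.node (.node (.leaf 3 1 [3, 0, 3, 0]) (.leaf 65 14 [2, 3, 4, 7, 0, 1, 2, 3, 4, 7, 0, 1, 2, 3, 4, 7, 17, 0, 1, 2, 3, 4, 7, 0, 1, 2, 3, 4, 7, 0, 1])) (.node (.leaf 38 0 [5, 8, 5, 8]) (.leaf 66 0 []))) (.node (.node (.leaf 20 1 [5, 2, 5, 2]) (.leaf 66 0 [])) (.node (.leaf 47 5 [6, 7, 1, 2, 3, 4, 5, 6, 7, 1, 2, 3, 4, 5, 6, 7, 1, 2, 3, 4, 5, 6, 7, 1, 2, 3, 4, 5, 6, 7, 1, 2, 3, 4, 5, 6, 7, 1, 2, 3, 4, 5, 6, 7, 1, 2, 3, 4, 5,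 6, 7, 1, 2, 3, 4, 5, 6, 7, 1, 2, 3, 4, 5]) (.leaf 66 0 [])))) (.node (.node (.node (.leaf 12 0 [1, 4, 1, 4]) (.leaf 65 30 [17, 0, 1, 2, 3, 4, 7, 0, 1, 2, 3, 4, 7, 0, 1, 2, 3, 4, 7, 0, 1, 2, 3, 4, 7, 0, 1, 2, 3, 4, 7])) (.node (.leaf 45 5 [5, 3, 7, 8, 3, 2, 1, 3, 4, 5, 3, 7, 8, 3, 2, 1, 3, 4, 5, 3, 7, 8, 3, 2, 1, 3, 4, 5, 3, 7, 8, 3, 2, 1, 3, 4, 5, 3, 7, 8, 3, 2, 1, 3, 4, 5, 3, 7, 8, 3, 2, 1, 3, 4, 5, 3, 7, 8, 3, 2, 1, 3, 4, 5, 3, 7, 8, 3, 2, 1, 3, 4, 5, 3, 7, 8, 3, 2, 1, 3, 4, 5, 3, 7, 8, 3, 2, 1, 3, 4]) (.leaf 66 0 []))) (.node (.node (.leaf 29 0 [3, 8, 3, 8]) (.leaf 66 0 [])) (.node (.leaf 64 0 [8, 16]) (.leaf 66 0 []))))) (.node (.node (.node (.node (.leaf 7 1 [7, 0, 7, 0]) (.leaf 65 22 [4, 7, 0, 1, 2, 3, 4, 7, 17, 0, 1, 2, 3, 4, 7, 0, 1,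 2, 3, 4, 7, 0, 1, 2, 3, 4, 7, 0, 1, 2, 3])) (.node (.leaf 43 0 [7, 8, 7, 8, 7, 8]) (.leaf 66 0 []))) (.node (.node (.leaf 25 0 [3, 4, 3, 4, 3, 4]) (.leaf 66 0 [])) (.node (.leaf 60 0 [4, 12]) (.leaf 66 0 [])))) (.node (.node (.node (.leaf 16 0 [1, 8, 1, 8]) (.leaf 66 0 [])) (.node (.leaf 46 4 [4, 5, 7, 0, 1, 2, 3, 4, 5, 7, 0, 1, 2, 3, 4, 5, 7, 0, 1, 2, 3, 4, 5, 7, 0, 1, 2, 3, 4, 5, 7, 0, 1, 2, 3, 4, 5, 7, 0, 1, 2, 3, 4, 5, 7, 0, 1, 2, 3, 4, 5, 7, 0, 1, 2, 3, 4, 5, 7, 0, 1, 2, 3]) (.leaf 66 0 []))) (.node (.node (.leaf 33 1 [7, 4, 7, 4]) (.leaf 66 0 [])) (.node (.leaf 65 6 [0, 1, 2, 3, 4, 7, 0, 1, 2, 3, 4, 7, 0, 1, 2, 3, 4, 7, 0, 1, 2, 3, 4, 7, 17, 0, 1, 2, 3, 4, 7]) (.leaf 66 0 [])))))))))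
noncomputable def VL : List ℕ := [V0, V1, V2, V3, V4, V5, V6, V7, V8]
noncomputable def RL : List ℕ := [R0, R1, R2, R3, R4, R5, R6, R7, R8, R9, R10, R11, R12, R13, R14, R15, R16, R17]
noncomputable def D : Data := mkData 16 56528 3510 8 65535 VL RL MG MT PAR PL FIN VERT vtree
def lay : Layout := ⟨16, 65535, 8, 255, 96⟩
def cols : List ℕ := [0, 1, 2, 3, 4, 5, 6, 7, 8]
def baseL : List (List ℕ) := [[0, 0],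
  [0, 1, 0, 1, 0, 1],
  [0, 2, 0, 2],
  [0, 3, 0, 3],
  [0, 4, 0, 4],
  [0, 5, 0, 5],
  [0, 6, 0, 6],
  [0, 7, 0, 7],
  [0, 8, 0, 8],
  [1, 1],
  [1, 2, 1, 2, 1, 2],
  [1, 3, 1, 3],
  [1, 4, 1, 4],
  [1, 5, 1, 5],
  [1, 6, 1, 6],
  [1, 7, 1, 7],
  [1, 8, 1, 8],
  [2, 2],
  [2, 3, 2, 3, 2, 3],
  [2, 4, 2, 4],
  [2, 5, 2, 5],
  [2, 6, 2, 6],
  [2, 7, 2, 7],
  [2, 8, 2, 8],
  [3, 3],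
  [3, 4, 3, 4, 3, 4],
  [3, 5, 3, 5],
  [3, 6, 3, 6],
  [3, 7, 3, 7, 3, 7],
  [3, 8, 3, 8],
  [4, 4],
  [4, 5, 4, 5, 4, 5],
  [4, 6, 4, 6],
  [4, 7, 4, 7],
  [4, 8, 4, 8],
  [5, 5],
  [5, 6, 5, 6, 5, 6],
  [5, 7, 5, 7],
  [5, 8, 5, 8],
  [6, 6],
  [6, 7, 6, 7],
  [6, 8, 6, 8],
  [7, 7],
  [7, 8, 7, 8, 7, 8],
  [8, 8],
  [3, 2, 1, 3, 4, 5, 3, 7, 8, 3, 2, 1, 3, 4, 5, 3, 7, 8, 3, 2, 1, 3, 4, 5, 3, 7, 8, 3, 2, 1, 3, 4, 5, 3, 7, 8, 3, 2, 1, 3, 4, 5, 3, 7, 8, 3, 2, 1, 3, 4, 5, 3, 7, 8, 3, 2, 1, 3, 4, 5, 3, 7, 8, 3, 2, 1, 3, 4, 5, 3, 7, 8, 3, 2, 1, 3, 4, 5, 3, 7, 8, 3, 2, 1, 3, 4, 5, 3, 7, 8],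
  [0, 1, 2, 3, 4, 5, 7, 0, 1, 2, 3, 4, 5, 7, 0, 1, 2, 3, 4, 5, 7, 0, 1, 2, 3, 4, 5, 7, 0, 1, 2, 3, 4, 5, 7, 0, 1, 2, 3, 4, 5, 7, 0, 1, 2, 3, 4, 5, 7, 0, 1, 2, 3, 4, 5, 7, 0, 1, 2, 3, 4, 5, 7],
  [1, 2, 3, 4, 5, 6, 7, 1, 2, 3, 4, 5, 6, 7, 1, 2, 3, 4, 5, 6, 7, 1, 2, 3, 4, 5, 6, 7, 1, 2, 3, 4, 5, 6, 7, 1, 2, 3, 4, 5, 6, 7, 1, 2, 3, 4, 5, 6, 7, 1, 2, 3, 4, 5, 6, 7, 1, 2, 3, 4, 5, 6, 7],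
  [0, 0],
  [1, 1],
  [2, 2],
  [3, 3],
  [4, 4],
  [5, 5],
  [6, 6],
  [7, 7],
  [8, 8],
  [0, 9],
  [2, 10],
  [3, 11],
  [4, 12],
  [5, 13],
  [6, 14],
  [7, 15],
  [8, 16],
  [0, 1, 2, 3, 4, 7, 0, 1, 2, 3, 4, 7, 0, 1, 2, 3, 4, 7, 0, 1, 2, 3, 4, 7, 0, 1, 2, 3, 4, 7, 17]]
noncomputable def LL : List ℕ := [L0, L1, L2, L3, L4, L5, L6, L7, L8]
noncomputable def P : LP where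
  WL := 16
  WLn := 56160
  mskL := 65535
  LL := LL
  cols := [0, 1, 2, 3, 4, 5, 6, 7, 8]
  rels := [[0, 0],
    [0, 1, 0, 1, 0, 1],
    [0, 2, 0, 2],
    [0, 3, 0, 3],
    [0, 4, 0, 4],
    [0, 5, 0, 5],
    [0, 6, 0, 6],
    [0, 7, 0, 7],
    [0, 8, 0, 8],
    [1, 1],
    [1, 2, 1, 2, 1, 2],
    [1, 3, 1, 3],
    [1, 4, 1, 4],
    [1, 5, 1, 5],
    [1, 6, 1, 6],
    [1, 7, 1, 7],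
    [1, 8, 1, 8],
    [2, 2],
    [2, 3, 2, 3, 2, 3],
    [2, 4, 2, 4],
    [2, 5, 2, 5],
    [2, 6, 2, 6],
    [2, 7, 2, 7],
    [2, 8, 2, 8],
    [3, 3],
    [3, 4, 3, 4, 3, 4],
    [3, 5, 3, 5],
    [3, 6, 3, 6],
    [3, 7, 3, 7, 3, 7],
    [3, 8, 3, 8],
    [4, 4],
    [4, 5, 4, 5, 4, 5],
    [4, 6, 4, 6],
    [4, 7, 4, 7],
    [4, 8, 4, 8],
    [5, 5],
    [5, 6, 5, 6, 5, 6],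
    [5, 7, 5, 7],
    [5, 8, 5, 8],
    [6, 6],
    [6, 7, 6, 7],
    [6, 8, 6, 8],
    [7, 7],
    [7, 8, 7, 8, 7, 8],
    [8, 8],
    [3, 2, 1, 3, 4, 5, 3, 7, 8, 3, 2, 1, 3, 4, 5, 3, 7, 8, 3, 2, 1, 3, 4, 5, 3, 7, 8, 3, 2, 1, 3, 4, 5, 3, 7, 8, 3, 2, 1, 3, 4, 5, 3, 7, 8, 3, 2, 1, 3, 4, 5, 3, 7, 8, 3, 2, 1, 3, 4, 5, 3, 7, 8, 3, 2, 1, 3, 4, 5, 3, 7, 8, 3, 2, 1, 3, 4, 5, 3, 7, 8, 3, 2, 1, 3, 4, 5, 3, 7, 8],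
    [0, 1, 2, 3, 4, 5, 7, 0, 1, 2, 3, 4, 5, 7, 0, 1, 2, 3, 4, 5, 7, 0, 1, 2, 3, 4, 5, 7, 0, 1, 2, 3, 4, 5, 7, 0, 1, 2, 3, 4, 5, 7, 0, 1, 2, 3, 4, 5, 7, 0, 1, 2, 3, 4, 5, 7, 0, 1, 2, 3, 4, 5, 7],
    [1, 2, 3, 4, 5, 6, 7, 1, 2, 3, 4, 5, 6, 7, 1, 2, 3, 4, 5, 6, 7, 1, 2, 3, 4, 5, 6, 7, 1, 2, 3, 4, 5, 6, 7, 1, 2, 3, 4, 5, 6, 7, 1, 2, 3, 4, 5, 6, 7, 1, 2, 3, 4, 5, 6, 7, 1, 2, 3, 4, 5, 6, 7],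
    [0, 0],
    [1, 1],
    [2, 2],
    [3, 3],
    [4, 4],
    [5, 5],
    [6, 6],
    [7, 7],
    [8, 8]]
  hws := [[0],
    [2],
    [3],
    [4],
    [5],
    [6],
    [7],
    [8],
    [0, 1, 2, 3, 4, 7, 0, 1, 2, 3, 4, 7, 0, 1, 2, 3, 4, 7, 0, 1, 2, 3, 4, 7, 0, 1, 2, 3, 4, 7]]
  twl := [[],
    [0],
    [2],
    [3],
    [4],
    [5],
    [6],
    [7],
    [8],
    [0, 1, 2, 3, 4, 7, 0, 1, 2, 3, 4, 7, 0, 1, 2, 3, 4, 7, 0, 1, 2, 3, 4, 7, 0, 1, 2, 3, 4, 7],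
    [0],
    [1],
    [2],
    [3],
    [4],
    [5],
    [6],
    [7],
    [8]]
  nH := 9
  bounds := [16, 45072]

end Cfsg.Agent.Lib.Helper29.FiA
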