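import Cfsg.Agent.Lib.Helper29.OrdPerm
import Cfsg.Agent.Lib.Helper29.FiA.Ok
import Cfsg.Agent.Lib.Helper29.FiA.Bsgs

/-! Generated: word identities in `Fi22` checked on the faithful permutation representation `FiA`. -/

set_option autoImplicit false
set_option Elab.async false

namespace Cfsg.Agent.Lib.Helper29.FiA

open Cfsg.Agent.Lib.Helper29 Cfsg.Agent.Lib.Helper29.TcTrace Cfsg.Agent.Lib.Helper29.TcCert
  Cfsg.Agent.Lib.Helper29.TcPerm Cfsg.Agent.Lib.Helper29.TcCox Cfsg.Agent.Lib.Helper29.OrdBasic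
  Cfsg.Agent.Lib.Helper29.OrdCox Cfsg.Agent.Lib.Helper29.OrdPerm Cfsg.Spor


set_option maxRecDepth 100000 in
theorem nrm_a_blk : ∀ k, k < 7 →
    allPts (fun q => Nat.beq (evT P colOf (.mul (.mul (.leaf .a true) (.leaf .a true)) (.inv (.leaf .a true))) false q) (evT P colOf (.leaf .a true) false q)) P.WL (min 512 (3510 - 512 * k)) (P.WL * (512 * k)) = true := by
  intro k hk
  interval_cases k <;> decide +kernel
theorem nrm_a (hinj : Function.Injective (phi ok)) :
    lwT Cfsg.Spor.Fi22.edges Cfsg.Spor.Fi22.extra (.mul (.mul (.leaf .a true) (.leaf .a true)) (.inv (.leaf .a true))) = lwT Cfsg.Spor.Fi22.edges Cfsg.Spor.Fi22.extra (.leaf .a true) :=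
  lwT_eq_of_chk ok hinj _ _
    (allPts_blocks (fun q => Nat.beq (evT P colOf (.mul (.mul (.leaf .a true) (.leaf .a true)) (.inv (.leaf .a true))) false q) (evT P colOf (.leaf .a true) false q)) P.WL 512 3510 7 (by decide) (by decide) nrm_a_blk)

set_option maxRecDepth 100000 in
theorem nrm_c_blk : ∀ k, k < 7 →
    allPts (fun q => Nat.beq (evT P colOf (.mul (.mul (.leaf .c true) (.leaf .a true)) (.inv (.leaf .c true))) false q) (evT P colOf (.leaf .a true) false q)) P.WL (min 512 (3510 - 512 * k)) (P.WL * (512 * k)) = true := by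
  intro k hk
  interval_cases k <;> decide +kernel
theorem nrm_c (hinj : Function.Injective (phi ok)) :
    lwT Cfsg.Spor.Fi22.edges Cfsg.Spor.Fi22.extra (.mul (.mul (.leaf .c true) (.leaf .a true)) (.inv (.leaf .c true))) = lwT Cfsg.Spor.Fi22.edges Cfsg.Spor.Fi22.extra (.leaf .a true) :=
  lwT_eq_of_chk ok hinj _ _
    (allPts_blocks (fun q => Nat.beq (evT P colOf (.mul (.mul (.leaf .c true) (.leaf .a true)) (.inv (.leaf .c true))) false q) (evT P colOf (.leaf .a true) false q)) P.WL 512 3510 7 (by decide) (by decide) nrm_c_blk)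

set_option maxRecDepth 100000 in
theorem nrm_d_blk : ∀ k, k < 7 →
    allPts (fun q => Nat.beq (evT P colOf (.mul (.mul (.leaf .d true) (.leaf .a true)) (.inv (.leaf .d true))) false q) (evT P colOf (.leaf .a true) false q)) P.WL (min 512 (3510 - 512 * k)) (P.WL * (512 * k)) = true := by
  intro k hk
  interval_cases k <;> decide +kernel
theorem nrm_d (hinj : Function.Injective (phi ok)) :
    lwT Cfsg.Spor.Fi22.edges Cfsg.Spor.Fi22.extra (.mul (.mul (.leaf .d true) (.leaf .a true)) (.inv (.leaf .d true))) = lwT Cfsg.Spor.Fi22.edges Cfsg.Spor.Fi22.extra (.leaf .a true) :=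
  lwT_eq_of_chk ok hinj _ _
    (allPts_blocks (fun q => Nat.beq (evT P colOf (.mul (.mul (.leaf .d true) (.leaf .a true)) (.inv (.leaf .d true))) false q) (evT P colOf (.leaf .a true) false q)) P.WL 512 3510 7 (by decide) (by decide) nrm_d_blk)

set_option maxRecDepth 100000 in
theorem nrm_e_blk : ∀ k, k < 7 →
    allPts (fun q => Nat.beq (evT P colOf (.mul (.mul (.leaf .e true) (.leaf .a true)) (.inv (.leaf .e true))) false q) (evT P colOf (.leaf .a true) false q)) P.WL (min 512 (3510 - 512 * k)) (P.WL * (512 * k)) = true := by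
  intro k hk
  interval_cases k <;> decide +kernel
theorem nrm_e (hinj : Function.Injective (phi ok)) :
    lwT Cfsg.Spor.Fi22.edges Cfsg.Spor.Fi22.extra (.mul (.mul (.leaf .e true) (.leaf .a true)) (.inv (.leaf .e true))) = lwT Cfsg.Spor.Fi22.edges Cfsg.Spor.Fi22.extra (.leaf .a true) :=
  lwT_eq_of_chk ok hinj _ _
    (allPts_blocks (fun q => Nat.beq (evT P colOf (.mul (.mul (.leaf .e true) (.leaf .a true)) (.inv (.leaf .e true))) false q) (evT P colOf (.leaf .a true) false q)) P.WL 512 3510 7 (by decide) (by decide) nrm_e_blk)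

set_option maxRecDepth 100000 in
theorem nrm_f_blk : ∀ k, k < 7 →
    allPts (fun q => Nat.beq (evT P colOf (.mul (.mul (.leaf .f true) (.leaf .a true)) (.inv (.leaf .f true))) false q) (evT P colOf (.leaf .a true) false q)) P.WL (min 512 (3510 - 512 * k)) (P.WL * (512 * k)) = true := by
  intro k hk
  interval_cases k <;> decide +kernel
theorem nrm_f (hinj : Function.Injective (phi ok)) :
    lwT Cfsg.Spor.Fi22.edges Cfsg.Spor.Fi22.extra (.mul (.mul (.leaf .f true) (.leaf .a true)) (.inv (.leaf .f true))) = lwT Cfsg.Spor.Fi22.edges Cfsg.Spor.Fi22.extra (.leaf .a true) :=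
  lwT_eq_of_chk ok hinj _ _
    (allPts_blocks (fun q => Nat.beq (evT P colOf (.mul (.mul (.leaf .f true) (.leaf .a true)) (.inv (.leaf .f true))) false q) (evT P colOf (.leaf .a true) false q)) P.WL 512 3510 7 (by decide) (by decide) nrm_f_blk)

set_option maxRecDepth 100000 in
theorem nrm_g_blk : ∀ k, k < 7 →
    allPts (fun q => Nat.beq (evT P colOf (.mul (.mul (.leaf .g true) (.leaf .a true)) (.inv (.leaf .g true))) false q) (evT P colOf (.leaf .a true) false q)) P.WL (min 512 (3510 - 512 * k)) (P.WL * (512 * k)) = true := by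
  intro k hk
  interval_cases k <;> decide +kernel
theorem nrm_g (hinj : Function.Injective (phi ok)) :
    lwT Cfsg.Spor.Fi22.edges Cfsg.Spor.Fi22.extra (.mul (.mul (.leaf .g true) (.leaf .a true)) (.inv (.leaf .g true))) = lwT Cfsg.Spor.Fi22.edges Cfsg.Spor.Fi22.extra (.leaf .a true) :=
  lwT_eq_of_chk ok hinj _ _
    (allPts_blocks (fun q => Nat.beq (evT P colOf (.mul (.mul (.leaf .g true) (.leaf .a true)) (.inv (.leaf .g true))) false q) (evT P colOf (.leaf .a true) false q)) P.WL 512 3510 7 (by decide) (by decide) nrm_g_blk)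

set_option maxRecDepth 100000 in
theorem nrm_h_blk : ∀ k, k < 7 →
    allPts (fun q => Nat.beq (evT P colOf (.mul (.mul (.leaf .h true) (.leaf .a true)) (.inv (.leaf .h true))) false q) (evT P colOf (.leaf .a true) false q)) P.WL (min 512 (3510 - 512 * k)) (P.WL * (512 * k)) = true := by
  intro k hk
  interval_cases k <;> decide +kernel
theorem nrm_h (hinj : Function.Injective (phi ok)) :
    lwT Cfsg.Spor.Fi22.edges Cfsg.Spor.Fi22.extra (.mul (.mul (.leaf .h true) (.leaf .a true)) (.inv (.leaf .h true))) = lwT Cfsg.Spor.Fi22.edges Cfsg.Spor.Fi22.extra (.leaf .a true) :=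
  lwT_eq_of_chk ok hinj _ _
    (allPts_blocks (fun q => Nat.beq (evT P colOf (.mul (.mul (.leaf .h true) (.leaf .a true)) (.inv (.leaf .h true))) false q) (evT P colOf (.leaf .a true) false q)) P.WL 512 3510 7 (by decide) (by decide) nrm_h_blk)

set_option maxRecDepth 100000 in
theorem nrm_i_blk : ∀ k, k < 7 →
    allPts (fun q => Nat.beq (evT P colOf (.mul (.mul (.leaf .i true) (.leaf .a true)) (.inv (.leaf .i true))) false q) (evT P colOf (.leaf .a true) false q)) P.WL (min 512 (3510 - 512 * k)) (P.WL * (512 * k)) = true := by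
  intro k hk
  interval_cases k <;> decide +kernel
theorem nrm_i (hinj : Function.Injective (phi ok)) :
    lwT Cfsg.Spor.Fi22.edges Cfsg.Spor.Fi22.extra (.mul (.mul (.leaf .i true) (.leaf .a true)) (.inv (.leaf .i true))) = lwT Cfsg.Spor.Fi22.edges Cfsg.Spor.Fi22.extra (.leaf .a true) :=
  lwT_eq_of_chk ok hinj _ _
    (allPts_blocks (fun q => Nat.beq (evT P colOf (.mul (.mul (.leaf .i true) (.leaf .a true)) (.inv (.leaf .i true))) false q) (evT P colOf (.leaf .a true) false q)) P.WL 512 3510 7 (by decide) (by decide) nrm_i_blk)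

set_option maxRecDepth 100000 in
theorem nrm_w_blk : ∀ k, k < 7 →
    allPts (fun q => Nat.beq (evT P colOf (.mul (.mul w5 (.leaf .a true)) (.inv w5)) false q) (evT P colOf (.leaf .a true) false q)) P.WL (min 512 (3510 - 512 * k)) (P.WL * (512 * k)) = true := by
  intro k hk
  interval_cases k <;> decide +kernel
theorem nrm_w (hinj : Function.Injective (phi ok)) :
    lwT Cfsg.Spor.Fi22.edges Cfsg.Spor.Fi22.extra (.mul (.mul w5 (.leaf .a true)) (.inv w5)) = lwT Cfsg.Spor.Fi22.edges Cfsg.Spor.Fi22.extra (.leaf .a true) :=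
  lwT_eq_of_chk ok hinj _ _
    (allPts_blocks (fun q => Nat.beq (evT P colOf (.mul (.mul w5 (.leaf .a true)) (.inv w5)) false q) (evT P colOf (.leaf .a true) false q)) P.WL 512 3510 7 (by decide) (by decide) nrm_w_blk)

end Cfsg.Agent.Lib.Helper29.FiA
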