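import Cfsg.Agent.Lib.Helper29.FiA.Data

set_option autoImplicit false
set_option Elab.async false

namespace Cfsg.Agent.Lib.Helper29.FiA

open Cfsg.Agent.Lib.Helper29.TcTrace Cfsg.Agent.Lib.Helper29.TcCert Cfsg.Agent.Lib.Helper29.TcPerm

theorem lblk_0 : chkPBlk P 5 31 128 3510 0 0x19d05424e841d0441529410461988519d05424e841d0441529410462152741d094a082415281988549d0742528209054a0654a0484a06939528121281a4e940d273250349cc83950729c8720c6210560 = true := by decide +kernel
theorem lblk_1 : chkPBlk P 5 31 128 3510 1 0x398a61148410ce8418634188548c8248d27408693a0e8310e8415293a125398461988219d0621d054a4e91a4e819d044150549d05414e6118662086741887415293a4693a06741105415274150619885 = true := by decide +kernel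
theorem lblk_2 : chkPBlk P 5 31 128 3510 2 0x49ca849c8339525324c51904339d0541cc2120682a445221241152349d041246938d27420c31a4e7418882952349ca9394e629845210433a10618d06215232092349d021a4e83a0c43a1054a4e84a4e5 = true := by decide +kernel
theorem lblk_3 : chkPBlk P 5 31 128 3510 3 0x28d092a486415241152349ca44904548c821a4e82a0e6109231a4e841867218882a44548c8849c8339525324c51904339d0541cc2120682a445221241152349d041246938d27420c31a4e74188829523 = true := by decide +kernel
theorem lblk_4 : chkPBlk P 5 31 128 3510 4 0x220a9208684a4e41a4e4490a9498e5188682a0e6120a9498a3424a9219054904548d272912411523208693a0a83984248c693a10619c86220a9115232212939069391242a526394621a0a8398482a526 = true := by decide +kernel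
theorem lblk_5 : chkPBlk P 5 31 128 3510 5 0x10c661a0c441526220a920867420a9191091a4e34a4854a4e6208834150542526394e82a4c8494682a4a9218882a4822a46928d254912411484124e841ca839909208491a5282a0e610c661a0c441526 = true := by decide +kernel
theorem lblk_6 : chkPBlk P 5 31 128 3510 6 0x2a0e611c473092830d06220a61a0c44152921c47420a9191091a4e34a4854a4e6208834150542526394e82a4c8494682a4a9218882a4822a46928d254912411484124e841ca839909208491a5282a0e6 = true := by decide +kernel
theorem lblk_7 : chkPBlk P 5 31 128 3510 7 0x1a0c44152921c473a0c82a4453a1244152349ca919527310e82a129398874190549d0549927291054990549468311054952441522424a54a4a34952449465224e83912740d072a12922124125293a107 = true := by decide +kernel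
theorem lblk_8 : chkPBlk P 5 31 128 3510 8 0x3a1244152349ca919527310e82a129398874190549d0549927291054990549468311054952441522424a54a4a34952449465224e83912740d072a12922124125293a1072a0e611c473092830d06220a6 = true := by decide +kernel
theorem lblk_9 : chkPBlk P 5 31 128 3510 9 0x2a4c93952840c882a4c82a4a3420a93a124414a949ca949468495251a4e349d0440ce43a0a848d092150939d093912740d072a0e839cc941cc241868310a73092841867418882a0a91a0e73a0c82a445 = true := by decide +kernel
theorem lblk_10 : chkPBlk P 5 31 128 3510 10 0x490a849ce849c893a0683950741ce64a0e6120c34188539849420c33a0c44150548d073a0c82a5233a1253a0c82a48241528198a9394a33a0e82a1293a4e63a0c828ce8320a94152849cc4418882a488 = true := by decide +kernel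
theorem lblk_11 : chkPBlk P 5 31 128 3510 11 0x19d0929d0641524120a940cc549ca519d074150949d2731d0641467419054a0a9424e6220c4415244152649ca94206441526415251a10549d09220a54a4e54a4a3424a928d271a4e82206721d0542468 = true := by decide +kernel
theorem lblk_12 : chkPBlk P 5 31 128 3510 12 0x29105499272a4e8414e849d082952849c884a4e54250920d274152820ce33a0e82a4e819527420693a08740d27225034a1033a4e83a0e641c4830d274a0a83984841867418874110549d2819d0641529 = true := by decide +kernel
theorem lblk_13 : chkPBlk P 5 31 128 3510 13 0x3a4e83a0e641c4830d274a0a83984841867418874110549d2819d0829067415233a0c82a52641528208c54a12719d07420a9415293a0e8320a8311054a0a94252742068311054a0a9424e6225281a0c4 = true := by decide +kernel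
theorem lblk_14 : chkPBlk P 5 31 128 3510 14 0x415293a0e8320a8311054a0a94252742068311054a0a9424e6225281a0c429105499272a4e8414e849d082952849c884a4e54250920d274152820ce33a0e82a4e819527420693a08740d27225034a103 = true := by decide +kernel
theorem lblk_15 : chkPBlk P 5 31 128 3510 15 0x49c884112742067420a9314851a4e828d274110818d2821528220693a12740ce841d0730865424e841cc8408693a10340ce8311054952821d0829067415233a0c82a52641528208c54a12719d07420a9 = true := by decide +kernel
theorem lblk_16 : chkPBlk P 5 31 128 3510 16 0x398432a127420e64204349d081a067418882a4a94110419d041a4e831105414c82a526220a419c673a107420a719d083a0c4415282a0a719d08418854152949468310a82a52939c6741d042a0a9424e8 = true := by decide +kernel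
theorem lblk_17 : chkPBlk P 5 31 128 3510 17 0x3110520ce339d083a10538ce841d06220a94150538ce8420c42a0a94a4a3418854152949ce33a0e8215054a127424e4420893a1033a105498a428d27414693a08840c69410a94110349d093a067420e8 = true := by decide +kernel
theorem lblk_18 : chkPBlk P 5 31 128 3510 18 0x418e83a0e6421033a08338ce83a10741d0441c633a0882a10538d06294633a10841467410a42a4693a0a349d0849d0549d0540d274110340ce938d08220e240ca93a0a820ce820d27418882a0a641529 = true := by decide +kernel
theorem lblk_19 : chkPBlk P 5 31 128 3510 19 0x420e82a52740ce41a4e831d0741cc8420674106719d07420e83a08838c6741105420a71a0c528c674210828ce82148548d27414693a1093a0a93a0a81a4e82206819d271a10441c48195274146720d27 = true := by decide +kernel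
theorem lblk_20 : chkPBlk P 5 31 128 3510 20 0x38ce84106741d073a10339ce71a105215233952339d293a12741c693a10819d083a0a949d021912719c6739c6321c6738ce33a10419d0741ce840ce739c684148548ce548ce74a4e849d071a4e842067 = true := by decide +kernel
theorem lblk_21 : chkPBlk P 5 31 128 3510 21 0x2106920c6741522188841a48319d05488621906320c6721c6719c64414654246719d2339ce741d052a46710c8319063390e338ce3220a32a12338ce919ce73a0e8295233886449c6719ce718c8719ce3 = true := by decide +kernel
theorem lblk_22 : chkPBlk P 5 31 128 3510 22 0x30cc620ce829d044152741505494c3310a919d05424e941d0441529410c42a4a7425054a109498c42a4e742528220a940ca93a509424e9310a9421281a4e942127315281a4e640ce51a0e5390e410d62 = true := by decide +kernel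
theorem lblk_23 : chkPBlk P 5 31 128 3510 23 0x3148248d271a4e819d06208693a4e5398a62908341863418882a464124693a0693a0e8310e84152849d05308c23a0c41a4e83a08828ce8414e6118662086741887415282a4e349d033a0882a0a93a505 = true := by decide +kernel
theorem lblk_24 : chkPBlk P 5 31 128 3510 24 0x491262a4a4320a9208a91952410c67415073084918d27420c339106220a9115232a44548d233a4e84186248d09390e5494c5120682a445221241152349c8248d271a4e84186349ce8311054152349d25 = true := by decide +kernel
theorem lblk_25 : chkPBlk P 5 31 128 3510 25 0x220a94952741c8819d094910922527420e5398e241cc24a0c321868311054a4882a4674a1292a4c549486220a9209292a48421d08394e64248248d29415073086830d06214c441524124e829cc949ce4 = true := by decide +kernel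
theorem lblk_26 : chkPBlk P 5 31 128 3510 26 0x424e8424e83a12941507309033a0c43a0a93a1053a0c8419052a503415052a5274a0883a0a84a0a849ce849c8819ca839d07399283984329cc24a10619d04415091a0a9194e8419054a4a9314c822125 = true := by decide +kernel
theorem lblk_27 : chkPBlk P 5 31 128 3510 27 0x1293a527495293a0a849d0840d274206742107421284210941d082a4e8425081a4e9 = true := by decide +kernel
theorem lo_0_1 : ∀ b, 0 ≤ b → b < 1 → ∃ J, chkPBlk P 5 31 128 3510 b J = true := fun b h1 h2 => by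
  have hb : b = 0 := Nat.le_antisymm (Nat.le_of_lt_succ h2) h1
  subst hb; exact ⟨_, lblk_0⟩
theorem lo_1_2 : ∀ b, 1 ≤ b → b < 2 → ∃ J, chkPBlk P 5 31 128 3510 b J = true := fun b h1 h2 => by
  have hb : b = 1 := Nat.le_antisymm (Nat.le_of_lt_succ h2) h1
  subst hb; exact ⟨_, lblk_1⟩
theorem lo_2_3 : ∀ b, 2 ≤ b → b < 3 → ∃ J, chkPBlk P 5 31 128 3510 b J = true := fun b h1 h2 => by
  have hb : b = 2 := Nat.le_antisymm (Nat.le_of_lt_succ h2) h1
  subst hb; exact ⟨_, lblk_2⟩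
theorem lo_1_3 : ∀ b, 1 ≤ b → b < 3 → ∃ J, chkPBlk P 5 31 128 3510 b J = true := fun b h1 h2 =>
  if h : b < 2 then lo_1_2 b h1 h else lo_2_3 b (Nat.le_of_not_lt h) h2
theorem lo_0_3 : ∀ b, 0 ≤ b → b < 3 → ∃ J, chkPBlk P 5 31 128 3510 b J = true := fun b h1 h2 =>
  if h : b < 1 then lo_0_1 b h1 h else lo_1_3 b (Nat.le_of_not_lt h) h2
theorem lo_3_4 : ∀ b, 3 ≤ b → b < 4 → ∃ J, chkPBlk P 5 31 128 3510 b J = true := fun b h1 h2 => by
  have hb : b = 3 := Nat.le_antisymm (Nat.le_of_lt_succ h2) h1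
  subst hb; exact ⟨_, lblk_3⟩
theorem lo_4_5 : ∀ b, 4 ≤ b → b < 5 → ∃ J, chkPBlk P 5 31 128 3510 b J = true := fun b h1 h2 => by
  have hb : b = 4 := Nat.le_antisymm (Nat.le_of_lt_succ h2) h1
  subst hb; exact ⟨_, lblk_4⟩
theorem lo_3_5 : ∀ b, 3 ≤ b → b < 5 → ∃ J, chkPBlk P 5 31 128 3510 b J = true := fun b h1 h2 =>
  if h : b < 4 then lo_3_4 b h1 h else lo_4_5 b (Nat.le_of_not_lt h) h2
theorem lo_5_6 : ∀ b, 5 ≤ b → b < 6 → ∃ J, chkPBlk P 5 31 128 3510 b J = true := fun b h1 h2 => by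
  have hb : b = 5 := Nat.le_antisymm (Nat.le_of_lt_succ h2) h1
  subst hb; exact ⟨_, lblk_5⟩
theorem lo_6_7 : ∀ b, 6 ≤ b → b < 7 → ∃ J, chkPBlk P 5 31 128 3510 b J = true := fun b h1 h2 => by
  have hb : b = 6 := Nat.le_antisymm (Nat.le_of_lt_succ h2) h1
  subst hb; exact ⟨_, lblk_6⟩
theorem lo_5_7 : ∀ b, 5 ≤ b → b < 7 → ∃ J, chkPBlk P 5 31 128 3510 b J = true := fun b h1 h2 =>
  if h : b < 6 then lo_5_6 b h1 h else lo_6_7 b (Nat.le_of_not_lt h) h2
theorem lo_3_7 : ∀ b, 3 ≤ b → b < 7 → ∃ J, chkPBlk P 5 31 128 3510 b J = true := fun b h1 h2 =>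
  if h : b < 5 then lo_3_5 b h1 h else lo_5_7 b (Nat.le_of_not_lt h) h2
theorem lo_0_7 : ∀ b, 0 ≤ b → b < 7 → ∃ J, chkPBlk P 5 31 128 3510 b J = true := fun b h1 h2 =>
  if h : b < 3 then lo_0_3 b h1 h else lo_3_7 b (Nat.le_of_not_lt h) h2
theorem lo_7_8 : ∀ b, 7 ≤ b → b < 8 → ∃ J, chkPBlk P 5 31 128 3510 b J = true := fun b h1 h2 => by
  have hb : b = 7 := Nat.le_antisymm (Nat.le_of_lt_succ h2) h1
  subst hb; exact ⟨_, lblk_7⟩
theorem lo_8_9 : ∀ b, 8 ≤ b → b < 9 → ∃ J, chkPBlk P 5 31 128 3510 b J = true := fun b h1 h2 => by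
  have hb : b = 8 := Nat.le_antisymm (Nat.le_of_lt_succ h2) h1
  subst hb; exact ⟨_, lblk_8⟩
theorem lo_9_10 : ∀ b, 9 ≤ b → b < 10 → ∃ J, chkPBlk P 5 31 128 3510 b J = true := fun b h1 h2 => by
  have hb : b = 9 := Nat.le_antisymm (Nat.le_of_lt_succ h2) h1
  subst hb; exact ⟨_, lblk_9⟩
theorem lo_8_10 : ∀ b, 8 ≤ b → b < 10 → ∃ J, chkPBlk P 5 31 128 3510 b J = true := fun b h1 h2 =>
  if h : b < 9 then lo_8_9 b h1 h else lo_9_10 b (Nat.le_of_not_lt h) h2
theorem lo_7_10 : ∀ b, 7 ≤ b → b < 10 → ∃ J, chkPBlk P 5 31 128 3510 b J = true := fun b h1 h2 =>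
  if h : b < 8 then lo_7_8 b h1 h else lo_8_10 b (Nat.le_of_not_lt h) h2
theorem lo_10_11 : ∀ b, 10 ≤ b → b < 11 → ∃ J, chkPBlk P 5 31 128 3510 b J = true := fun b h1 h2 => by
  have hb : b = 10 := Nat.le_antisymm (Nat.le_of_lt_succ h2) h1
  subst hb; exact ⟨_, lblk_10⟩
theorem lo_11_12 : ∀ b, 11 ≤ b → b < 12 → ∃ J, chkPBlk P 5 31 128 3510 b J = true := fun b h1 h2 => by
  have hb : b = 11 := Nat.le_antisymm (Nat.le_of_lt_succ h2) h1
  subst hb; exact ⟨_, lblk_11⟩
theorem lo_10_12 : ∀ b, 10 ≤ b → b < 12 → ∃ J, chkPBlk P 5 31 128 3510 b J = true := fun b h1 h2 =>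
  if h : b < 11 then lo_10_11 b h1 h else lo_11_12 b (Nat.le_of_not_lt h) h2
theorem lo_12_13 : ∀ b, 12 ≤ b → b < 13 → ∃ J, chkPBlk P 5 31 128 3510 b J = true := fun b h1 h2 => by
  have hb : b = 12 := Nat.le_antisymm (Nat.le_of_lt_succ h2) h1
  subst hb; exact ⟨_, lblk_12⟩
theorem lo_13_14 : ∀ b, 13 ≤ b → b < 14 → ∃ J, chkPBlk P 5 31 128 3510 b J = true := fun b h1 h2 => by
  have hb : b = 13 := Nat.le_antisymm (Nat.le_of_lt_succ h2) h1
  subst hb; exact ⟨_, lblk_13⟩
theorem lo_12_14 : ∀ b, 12 ≤ b → b < 14 → ∃ J, chkPBlk P 5 31 128 3510 b J = true := fun b h1 h2 =>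
  if h : b < 13 then lo_12_13 b h1 h else lo_13_14 b (Nat.le_of_not_lt h) h2
theorem lo_10_14 : ∀ b, 10 ≤ b → b < 14 → ∃ J, chkPBlk P 5 31 128 3510 b J = true := fun b h1 h2 =>
  if h : b < 12 then lo_10_12 b h1 h else lo_12_14 b (Nat.le_of_not_lt h) h2
theorem lo_7_14 : ∀ b, 7 ≤ b → b < 14 → ∃ J, chkPBlk P 5 31 128 3510 b J = true := fun b h1 h2 =>
  if h : b < 10 then lo_7_10 b h1 h else lo_10_14 b (Nat.le_of_not_lt h) h2
theorem lo_0_14 : ∀ b, 0 ≤ b → b < 14 → ∃ J, chkPBlk P 5 31 128 3510 b J = true := fun b h1 h2 =>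
  if h : b < 7 then lo_0_7 b h1 h else lo_7_14 b (Nat.le_of_not_lt h) h2
theorem lo_14_15 : ∀ b, 14 ≤ b → b < 15 → ∃ J, chkPBlk P 5 31 128 3510 b J = true := fun b h1 h2 => by
  have hb : b = 14 := Nat.le_antisymm (Nat.le_of_lt_succ h2) h1
  subst hb; exact ⟨_, lblk_14⟩
theorem lo_15_16 : ∀ b, 15 ≤ b → b < 16 → ∃ J, chkPBlk P 5 31 128 3510 b J = true := fun b h1 h2 => by
  have hb : b = 15 := Nat.le_antisymm (Nat.le_of_lt_succ h2) h1
  subst hb; exact ⟨_, lblk_15⟩
theorem lo_16_17 : ∀ b, 16 ≤ b → b < 17 → ∃ J, chkPBlk P 5 31 128 3510 b J = true := fun b h1 h2 => by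
  have hb : b = 16 := Nat.le_antisymm (Nat.le_of_lt_succ h2) h1
  subst hb; exact ⟨_, lblk_16⟩
theorem lo_15_17 : ∀ b, 15 ≤ b → b < 17 → ∃ J, chkPBlk P 5 31 128 3510 b J = true := fun b h1 h2 =>
  if h : b < 16 then lo_15_16 b h1 h else lo_16_17 b (Nat.le_of_not_lt h) h2
theorem lo_14_17 : ∀ b, 14 ≤ b → b < 17 → ∃ J, chkPBlk P 5 31 128 3510 b J = true := fun b h1 h2 =>
  if h : b < 15 then lo_14_15 b h1 h else lo_15_17 b (Nat.le_of_not_lt h) h2
theorem lo_17_18 : ∀ b, 17 ≤ b → b < 18 → ∃ J, chkPBlk P 5 31 128 3510 b J = true := fun b h1 h2 => by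
  have hb : b = 17 := Nat.le_antisymm (Nat.le_of_lt_succ h2) h1
  subst hb; exact ⟨_, lblk_17⟩
theorem lo_18_19 : ∀ b, 18 ≤ b → b < 19 → ∃ J, chkPBlk P 5 31 128 3510 b J = true := fun b h1 h2 => by
  have hb : b = 18 := Nat.le_antisymm (Nat.le_of_lt_succ h2) h1
  subst hb; exact ⟨_, lblk_18⟩
theorem lo_17_19 : ∀ b, 17 ≤ b → b < 19 → ∃ J, chkPBlk P 5 31 128 3510 b J = true := fun b h1 h2 =>
  if h : b < 18 then lo_17_18 b h1 h else lo_18_19 b (Nat.le_of_not_lt h) h2
theorem lo_19_20 : ∀ b, 19 ≤ b → b < 20 → ∃ J, chkPBlk P 5 31 128 3510 b J = true := fun b h1 h2 => by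
  have hb : b = 19 := Nat.le_antisymm (Nat.le_of_lt_succ h2) h1
  subst hb; exact ⟨_, lblk_19⟩
theorem lo_20_21 : ∀ b, 20 ≤ b → b < 21 → ∃ J, chkPBlk P 5 31 128 3510 b J = true := fun b h1 h2 => by
  have hb : b = 20 := Nat.le_antisymm (Nat.le_of_lt_succ h2) h1
  subst hb; exact ⟨_, lblk_20⟩
theorem lo_19_21 : ∀ b, 19 ≤ b → b < 21 → ∃ J, chkPBlk P 5 31 128 3510 b J = true := fun b h1 h2 =>
  if h : b < 20 then lo_19_20 b h1 h else lo_20_21 b (Nat.le_of_not_lt h) h2
theorem lo_17_21 : ∀ b, 17 ≤ b → b < 21 → ∃ J, chkPBlk P 5 31 128 3510 b J = true := fun b h1 h2 =>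
  if h : b < 19 then lo_17_19 b h1 h else lo_19_21 b (Nat.le_of_not_lt h) h2
theorem lo_14_21 : ∀ b, 14 ≤ b → b < 21 → ∃ J, chkPBlk P 5 31 128 3510 b J = true := fun b h1 h2 =>
  if h : b < 17 then lo_14_17 b h1 h else lo_17_21 b (Nat.le_of_not_lt h) h2
theorem lo_21_22 : ∀ b, 21 ≤ b → b < 22 → ∃ J, chkPBlk P 5 31 128 3510 b J = true := fun b h1 h2 => by
  have hb : b = 21 := Nat.le_antisymm (Nat.le_of_lt_succ h2) h1
  subst hb; exact ⟨_, lblk_21⟩
theorem lo_22_23 : ∀ b, 22 ≤ b → b < 23 → ∃ J, chkPBlk P 5 31 128 3510 b J = true := fun b h1 h2 => by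
  have hb : b = 22 := Nat.le_antisymm (Nat.le_of_lt_succ h2) h1
  subst hb; exact ⟨_, lblk_22⟩
theorem lo_23_24 : ∀ b, 23 ≤ b → b < 24 → ∃ J, chkPBlk P 5 31 128 3510 b J = true := fun b h1 h2 => by
  have hb : b = 23 := Nat.le_antisymm (Nat.le_of_lt_succ h2) h1
  subst hb; exact ⟨_, lblk_23⟩
theorem lo_22_24 : ∀ b, 22 ≤ b → b < 24 → ∃ J, chkPBlk P 5 31 128 3510 b J = true := fun b h1 h2 =>
  if h : b < 23 then lo_22_23 b h1 h else lo_23_24 b (Nat.le_of_not_lt h) h2
theorem lo_21_24 : ∀ b, 21 ≤ b → b < 24 → ∃ J, chkPBlk P 5 31 128 3510 b J = true := fun b h1 h2 =>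
  if h : b < 22 then lo_21_22 b h1 h else lo_22_24 b (Nat.le_of_not_lt h) h2
theorem lo_24_25 : ∀ b, 24 ≤ b → b < 25 → ∃ J, chkPBlk P 5 31 128 3510 b J = true := fun b h1 h2 => by
  have hb : b = 24 := Nat.le_antisymm (Nat.le_of_lt_succ h2) h1
  subst hb; exact ⟨_, lblk_24⟩
theorem lo_25_26 : ∀ b, 25 ≤ b → b < 26 → ∃ J, chkPBlk P 5 31 128 3510 b J = true := fun b h1 h2 => by
  have hb : b = 25 := Nat.le_antisymm (Nat.le_of_lt_succ h2) h1
  subst hb; exact ⟨_, lblk_25⟩
theorem lo_24_26 : ∀ b, 24 ≤ b → b < 26 → ∃ J, chkPBlk P 5 31 128 3510 b J = true := fun b h1 h2 =>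
  if h : b < 25 then lo_24_25 b h1 h else lo_25_26 b (Nat.le_of_not_lt h) h2
theorem lo_26_27 : ∀ b, 26 ≤ b → b < 27 → ∃ J, chkPBlk P 5 31 128 3510 b J = true := fun b h1 h2 => by
  have hb : b = 26 := Nat.le_antisymm (Nat.le_of_lt_succ h2) h1
  subst hb; exact ⟨_, lblk_26⟩
theorem lo_27_28 : ∀ b, 27 ≤ b → b < 28 → ∃ J, chkPBlk P 5 31 128 3510 b J = true := fun b h1 h2 => by
  have hb : b = 27 := Nat.le_antisymm (Nat.le_of_lt_succ h2) h1
  subst hb; exact ⟨_, lblk_27⟩
theorem lo_26_28 : ∀ b, 26 ≤ b → b < 28 → ∃ J, chkPBlk P 5 31 128 3510 b J = true := fun b h1 h2 =>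
  if h : b < 27 then lo_26_27 b h1 h else lo_27_28 b (Nat.le_of_not_lt h) h2
theorem lo_24_28 : ∀ b, 24 ≤ b → b < 28 → ∃ J, chkPBlk P 5 31 128 3510 b J = true := fun b h1 h2 =>
  if h : b < 26 then lo_24_26 b h1 h else lo_26_28 b (Nat.le_of_not_lt h) h2
theorem lo_21_28 : ∀ b, 21 ≤ b → b < 28 → ∃ J, chkPBlk P 5 31 128 3510 b J = true := fun b h1 h2 =>
  if h : b < 24 then lo_21_24 b h1 h else lo_24_28 b (Nat.le_of_not_lt h) h2
theorem lo_14_28 : ∀ b, 14 ≤ b → b < 28 → ∃ J, chkPBlk P 5 31 128 3510 b J = true := fun b h1 h2 =>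
  if h : b < 21 then lo_14_21 b h1 h else lo_21_28 b (Nat.le_of_not_lt h) h2
theorem lo_0_28 : ∀ b, 0 ≤ b → b < 28 → ∃ J, chkPBlk P 5 31 128 3510 b J = true := fun b h1 h2 =>
  if h : b < 14 then lo_0_14 b h1 h else lo_14_28 b (Nat.le_of_not_lt h) h2

end Cfsg.Agent.Lib.Helper29.FiA
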